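import Groth.Agent.TwistFlat.Projection
import Groth.Agent.KFlat.ProjFormula
import Groth.Agent.CBC.TensorA
import Groth.Agent.QCoh.Pullback
import Groth.Agent.QCoh.Qcqs
import Groth.Agent.S12131

/-!
# The projection formula for an affine morphism and quasi-coherent modules
-/

set_option autoImplicit false
set_option linter.style.haveILetI false

universe u

open CategoryTheory CategoryTheory.Limits AlgebraicGeometry TopologicalSpace Opposite
open scoped TensorProduct

noncomputable section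

namespace Groth.Agent.ProjAff

open Groth.Agent.KFlat.PullTensor Groth.Agent.KFlat.StalkTensor Groth.Agent.LimTop.TensorQC

variable {X Y : Scheme.{u}} (g : X ⟶ Y) [IsAffineHom g]

theorem isIso_projMap (F : X.Modules) [F.IsQuasicoherent] (L : Y.Modules) [L.IsQuasicoherent] :
    IsIso (TwistFlat.projMap g F L) := by
  haveI : ((Coh.push g).obj F).IsQuasicoherent := QCoh.isQuasicoherent_pushforward g F
  haveI : ((Scheme.Modules.pullback g).obj L).IsQuasicoherent := QCoh.isQuasicoherent_pullback g L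
  refine S12131.isIso_of_affine_cover _ (fun _ => True) (fun V x hx => ?_) fun W hW _ => ?_
  · obtain ⟨W, hW, hxW, hWV⟩ := exists_isAffineOpen_mem_and_subset hx
    exact ⟨W, hW, trivial, hxW, hWV⟩
  letI := (g.appLE W (g ⁻¹ᵁ W) le_rfl).hom.toAlgebra
  letI := LimTop.secModule g L (le_refl (g ⁻¹ᵁ W))
  haveI : IsScalarTower Γ(Y, W) Γ(X, g ⁻¹ᵁ W) Γ((Scheme.Modules.pullback g).obj L, g ⁻¹ᵁ W) :=
    .of_algebraMap_smul fun _ _ => rfl
  letI : Module Γ(Y, W) Γ(F, g ⁻¹ᵁ W) := (inferInstance : Module Γ(Y, W) Γ((Coh.push g).obj F, W))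
  haveI : IsScalarTower Γ(Y, W) Γ(X, g ⁻¹ᵁ W) Γ(F, g ⁻¹ᵁ W) := .of_algebraMap_smul fun a m => by
    show (g.appLE W (g ⁻¹ᵁ W) le_rfl a : Γ(X, g ⁻¹ᵁ W)) • m = (g.app W a : Γ(X, g ⁻¹ᵁ W)) • m
    rw [Scheme.Hom.app_eq_appLE]
  have hbc := LimTop.isBaseChange_unitSec g L (le_refl (g ⁻¹ᵁ W)) hW (hW.preimage g)
  let c := (TensorProduct.AlgebraTensorModule.cancelBaseChange Γ(Y, W) Γ(X, g ⁻¹ᵁ W) Γ(X, g ⁻¹ᵁ W)
    Γ(F, g ⁻¹ᵁ W) Γ(L, W)).symm
  let e := TensorProduct.congr (LinearEquiv.refl Γ(X, g ⁻¹ᵁ W) Γ(F, g ⁻¹ᵁ W)) hbc.equiv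
  haveI := isQuasicoherent_tensM ((Coh.push g).obj F) L
  haveI := isQuasicoherent_tensM F ((Scheme.Modules.pullback g).obj L)
  have h₁ : Function.Bijective (secMap ((Coh.push g).obj F) L W) :=
    CBC.bijective_of_stalkwise _ (isStalkwiseLoc_secMap ((Coh.push g).obj F) L hW)
  have h₂ : Function.Bijective (secMap F ((Scheme.Modules.pullback g).obj L) (g ⁻¹ᵁ W)) :=
    CBC.bijective_of_stalkwise _ (isStalkwiseLoc_secMap F _ (hW.preimage g))
  have key : ∀ z : Γ(F, g ⁻¹ᵁ W) ⊗[Γ(Y, W)] Γ(L, W),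
      (TwistFlat.projMap g F L).app W (secMap ((Coh.push g).obj F) L W z) =
        secMap F ((Scheme.Modules.pullback g).obj L) (g ⁻¹ᵁ W) (e (c z)) := by
    intro z
    induction z using TensorProduct.induction_on with
    | zero => simp only [map_zero]; exact map_zero _
    | tmul m l =>
      refine (TwistFlat.projMap_tmul g F L (U := W) m l).trans ?_
      simp only [c, e, TensorProduct.AlgebraTensorModule.cancelBaseChange_symm_tmul, TensorProduct.congr_tmul,
        hbc.equiv_tmul, one_smul, LinearEquiv.refl_apply]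
      refine congrArg (tmulSec (g ⁻¹ᵁ W) m) ?_
      exact (QCoh.res_self _ le_rfl _).symm
    | add a b ha hb =>
      exact (congrArg ((TwistFlat.projMap g F L).app W) (map_add _ a b)).trans ((map_add _ _ _).trans
        ((congrArg₂ (· + ·) ha hb).trans (by simp only [map_add]; rfl)))
  have h : Function.Bijective (secMap F ((Scheme.Modules.pullback g).obj L) (g ⁻¹ᵁ W) ∘ e ∘ c) :=
    h₂.comp (e.bijective.comp c.bijective)
  exact (Function.Bijective.of_comp_iff _ h₁).mp
    (Eq.mpr (congrArg Function.Bijective (funext key)) h)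

omit [IsAffineHom g] in
theorem θ_eq (F : X.Modules) (L : Y.Modules) :
    (KFlat.ProjFormula.θ g F).app L = TwistFlat.projMap g F L :=
  congrArg ((Scheme.Modules.pullbackPushforwardAdjunction g).homEquiv _ _)
    (congrArg ((pullTensorIso g ((Scheme.Modules.pushforward g).obj F) L).hom ≫ ·) (tensMap_id_right _ _).symm)

/-- The projection formula, natural in the quasi-coherent module upstairs. -/
def projNatIso (L : Y.Modules) [L.IsQuasicoherent] :
    ObjectProperty.ι (fun M : X.Modules => M.IsQuasicoherent) ⋙ Scheme.Modules.pushforward g ⋙ DCoh.tensorRightMod L ≅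
      ObjectProperty.ι (fun M : X.Modules => M.IsQuasicoherent) ⋙
        DCoh.tensorRightMod ((Scheme.Modules.pullback g).obj L) ⋙ Scheme.Modules.pushforward g :=
  NatIso.ofComponents
    (fun M => haveI := M.property
      @asIso _ _ _ _ ((KFlat.ProjFormula.θ g M.obj).app L) (by rw [θ_eq]; exact isIso_projMap g M.obj L))
    fun φ => KFlat.ProjFormula.θ_left g φ.hom L

end Groth.Agent.ProjAff

end
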